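import Mathlib
import Cfsg.Agent.Lib.Helper22.SU4.Defs

/-!
# Project SU4 (helper22), row M5 (`closure_SUJ`), part 1: entry calculus in the model `SUJ`
-/

set_option autoImplicit false

namespace Cfsg.Agent.Lib.Helper22.SU4

open Cfsg.Agent.Lib.helper17.SLP Cfsg.Agent.Lib.helper3.SP4

universe u

open Matrix

variable {F : Type u} {K : Type u} [Field F] [Field K]

/-- the entry form of the unitary condition (columns) -/
theorem su4m5_uj_entry (σ : F →+* F) {A : Matrix (Fin 2 ⊕ Fin 2) (Fin 2 ⊕ Fin 2) F} (hA : IsUJ σ A)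
    (i j : Fin 2 ⊕ Fin 2) :
    -(A (Sum.inl 0) i * σ (A (Sum.inr 0) j)) - A (Sum.inl 1) i * σ (A (Sum.inr 1) j) +
      A (Sum.inr 0) i * σ (A (Sum.inl 0) j) + A (Sum.inr 1) i * σ (A (Sum.inl 1) j) = Matrix.J (Fin 2) F i j := by
  have h := congrFun (congrFun hA i) j
  rw [← h]
  simp only [Matrix.mul_apply, Matrix.transpose_apply, Matrix.map_apply, Fintype.sum_sum_type, Fin.sum_univ_two,
    Matrix.J, Matrix.fromBlocks_apply₁₁, Matrix.fromBlocks_apply₁₂, Matrix.fromBlocks_apply₂₁, Matrix.fromBlocks_apply₂₂,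
    Matrix.zero_apply, Matrix.neg_apply, Matrix.one_apply]
  simp
  ring

/-- the row form of the unitary condition -/
theorem su4m5_uj_row (σ : F →+* F) {A : Matrix (Fin 2 ⊕ Fin 2) (Fin 2 ⊕ Fin 2) F} (hA : IsUJ σ A) :
    A.map σ * Matrix.J (Fin 2) F * Aᵀ = Matrix.J (Fin 2) F := by
  unfold IsUJ at hA
  have hJ : Matrix.J (Fin 2) F * Matrix.J (Fin 2) F = -1 := Matrix.J_squared (Fin 2) F
  have h1 : (-(Matrix.J (Fin 2) F) * Aᵀ * Matrix.J (Fin 2) F) * A.map σ = 1 := by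
    calc (-(Matrix.J (Fin 2) F) * Aᵀ * Matrix.J (Fin 2) F) * A.map σ
        = -(Matrix.J (Fin 2) F) * (Aᵀ * Matrix.J (Fin 2) F * A.map σ) := by simp only [Matrix.mul_assoc]
      _ = 1 := by rw [hA, Matrix.neg_mul, hJ, neg_neg]
  have h2 : A.map σ * (-(Matrix.J (Fin 2) F) * Aᵀ * Matrix.J (Fin 2) F) = 1 := mul_eq_one_comm.mp h1
  have h3 : A.map σ * Matrix.J (Fin 2) F * Aᵀ * Matrix.J (Fin 2) F = -1 := by
    have : A.map σ * (-(Matrix.J (Fin 2) F) * Aᵀ * Matrix.J (Fin 2) F) =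
        -(A.map σ * Matrix.J (Fin 2) F * Aᵀ * Matrix.J (Fin 2) F) := by
      simp only [Matrix.mul_assoc, Matrix.neg_mul, Matrix.mul_neg]
    rw [this] at h2
    rw [← h2, neg_neg]
  calc A.map σ * Matrix.J (Fin 2) F * Aᵀ
      = -(A.map σ * Matrix.J (Fin 2) F * Aᵀ * Matrix.J (Fin 2) F * Matrix.J (Fin 2) F) := by
        rw [Matrix.mul_assoc _ (Matrix.J (Fin 2) F) (Matrix.J (Fin 2) F), hJ, Matrix.mul_neg, Matrix.mul_one, neg_neg]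
    _ = Matrix.J (Fin 2) F := by rw [h3, Matrix.neg_mul, Matrix.one_mul, neg_neg]

theorem su4m5_uj_row_entry (σ : F →+* F) {A : Matrix (Fin 2 ⊕ Fin 2) (Fin 2 ⊕ Fin 2) F} (hA : IsUJ σ A)
    (i j : Fin 2 ⊕ Fin 2) :
    -(σ (A i (Sum.inl 0)) * A j (Sum.inr 0)) - σ (A i (Sum.inl 1)) * A j (Sum.inr 1) +
      σ (A i (Sum.inr 0)) * A j (Sum.inl 0) + σ (A i (Sum.inr 1)) * A j (Sum.inl 1) = Matrix.J (Fin 2) F i j := by
  have h := congrFun (congrFun (su4m5_uj_row σ hA) i) j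
  rw [← h]
  simp only [Matrix.mul_apply, Matrix.transpose_apply, Matrix.map_apply, Fintype.sum_sum_type, Fin.sum_univ_two,
    Matrix.J, Matrix.fromBlocks_apply₁₁, Matrix.fromBlocks_apply₁₂, Matrix.fromBlocks_apply₂₁, Matrix.fromBlocks_apply₂₂,
    Matrix.zero_apply, Matrix.neg_apply, Matrix.one_apply]
  simp
  ring

/-! ## `SL₂` moves vectors -/

theorem su4m5_sl2_row {E : Type*} [Field E] (x y : E) (h : x ≠ 0 ∨ y ≠ 0) :
    ∃ M : Matrix.SpecialLinearGroup (Fin 2) E, M.1 1 0 = x ∧ M.1 1 1 = y := by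
  by_cases hy : y = 0
  · have hx : x ≠ 0 := by
      rcases h with h | h
      · exact h
      · exact absurd hy h
    refine ⟨⟨!![0, -x⁻¹; x, y], ?_⟩, by simp, by simp⟩
    rw [Matrix.det_fin_two_of]
    field_simp
    ring
  · refine ⟨⟨!![y⁻¹, 0; x, y], ?_⟩, by simp, by simp⟩
    rw [Matrix.det_fin_two_of]
    field_simp
    ring

theorem su4m5_sl2_col {E : Type*} [Field E] (x y : E) (h : x ≠ 0 ∨ y ≠ 0) :
    ∃ M : Matrix.SpecialLinearGroup (Fin 2) E, M.1 0 0 * x + M.1 0 1 * y = 1 ∧ M.1 1 0 * x + M.1 1 1 * y = 0 := by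
  by_cases hx : x = 0
  · have hy : y ≠ 0 := by
      rcases h with h | h
      · exact absurd hx h
      · exact h
    refine ⟨⟨!![0, y⁻¹; -y, x], ?_⟩, ?_, ?_⟩
    · rw [Matrix.det_fin_two_of]
      field_simp
      ring
    · simp [hy]
    · simp; ring
  · refine ⟨⟨!![x⁻¹, 0; -y, x], ?_⟩, ?_, ?_⟩
    · rw [Matrix.det_fin_two_of]
      field_simp
      ring
    · simp [hx]
    · simp; ring

/-! ## matrices of elements of `SUJ` -/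

/-- the matrix of an element of `SUJ` -/
def su4m5_mt {σ : F →+* F} (g : ↥(SUJ σ)) : Matrix (Fin 2 ⊕ Fin 2) (Fin 2 ⊕ Fin 2) F := g.1.1

theorem su4m5_mt_mul {σ : F →+* F} (g h : ↥(SUJ σ)) : su4m5_mt (g * h) = su4m5_mt g * su4m5_mt h := rfl

theorem su4m5_mt_isUJ {σ : F →+* F} (g : ↥(SUJ σ)) : IsUJ σ (su4m5_mt g) := g.2

theorem su4m5_mt_det {σ : F →+* F} (g : ↥(SUJ σ)) : (su4m5_mt g).det = 1 := g.1.2

theorem su4m5_mt_injective {σ : F →+* F} : Function.Injective (su4m5_mt (σ := σ)) := by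
  intro g h e
  exact Subtype.ext (Subtype.ext e)

theorem su4m5_mt_rhoAT (D : Tw F K) (M : Matrix.SpecialLinearGroup (Fin 2) F) : su4m5_mt (rhoAT D M) = rhoATm D.σ M.1 := rfl

theorem su4m5_mt_rhoBT (D : Tw F K) (M : Matrix.SpecialLinearGroup (Fin 2) K) : su4m5_mt (rhoBT D M) = rhoBTm D.ι M.1 := rfl

/-- left multiplication by `rhoATm` -/
theorem su4m5_A_mul (σ : F →+* F) (M : Matrix (Fin 2) (Fin 2) F) (A : Matrix (Fin 2 ⊕ Fin 2) (Fin 2 ⊕ Fin 2) F)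
    (j : Fin 2 ⊕ Fin 2) :
    (rhoATm σ M * A) (Sum.inl 0) j = M 0 0 * A (Sum.inl 0) j + M 0 1 * A (Sum.inl 1) j ∧
    (rhoATm σ M * A) (Sum.inl 1) j = M 1 0 * A (Sum.inl 0) j + M 1 1 * A (Sum.inl 1) j ∧
    (rhoATm σ M * A) (Sum.inr 0) j = σ (M 1 1) * A (Sum.inr 0) j - σ (M 1 0) * A (Sum.inr 1) j ∧
    (rhoATm σ M * A) (Sum.inr 1) j = -(σ (M 0 1) * A (Sum.inr 0) j) + σ (M 0 0) * A (Sum.inr 1) j := by
  refine ⟨?_, ?_, ?_, ?_⟩ <;>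
    (simp [rhoATm, Matrix.mul_apply, Fintype.sum_sum_type, Fin.sum_univ_two]; try ring)

/-- left multiplication by `rhoBTm` -/
theorem su4m5_B_mul (ι : K →+* F) (M : Matrix (Fin 2) (Fin 2) K) (A : Matrix (Fin 2 ⊕ Fin 2) (Fin 2 ⊕ Fin 2) F)
    (j : Fin 2 ⊕ Fin 2) :
    (rhoBTm ι M * A) (Sum.inl 0) j = A (Sum.inl 0) j ∧
    (rhoBTm ι M * A) (Sum.inl 1) j = ι (M 0 0) * A (Sum.inl 1) j + ι (M 0 1) * A (Sum.inr 1) j ∧
    (rhoBTm ι M * A) (Sum.inr 0) j = A (Sum.inr 0) j ∧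
    (rhoBTm ι M * A) (Sum.inr 1) j = ι (M 1 0) * A (Sum.inl 1) j + ι (M 1 1) * A (Sum.inr 1) j := by
  refine ⟨?_, ?_, ?_, ?_⟩ <;>
    simp [rhoBTm, Matrix.mul_apply, Fintype.sum_sum_type, Fin.sum_univ_two]

/-- right multiplication by `rhoATm` -/
theorem su4m5_mul_A (σ : F →+* F) (M : Matrix (Fin 2) (Fin 2) F) (A : Matrix (Fin 2 ⊕ Fin 2) (Fin 2 ⊕ Fin 2) F)
    (i : Fin 2 ⊕ Fin 2) :
    (A * rhoATm σ M) i (Sum.inl 0) = A i (Sum.inl 0) * M 0 0 + A i (Sum.inl 1) * M 1 0 ∧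
    (A * rhoATm σ M) i (Sum.inl 1) = A i (Sum.inl 0) * M 0 1 + A i (Sum.inl 1) * M 1 1 ∧
    (A * rhoATm σ M) i (Sum.inr 0) = A i (Sum.inr 0) * σ (M 1 1) - A i (Sum.inr 1) * σ (M 0 1) ∧
    (A * rhoATm σ M) i (Sum.inr 1) = -(A i (Sum.inr 0) * σ (M 1 0)) + A i (Sum.inr 1) * σ (M 0 0) := by
  refine ⟨?_, ?_, ?_, ?_⟩ <;>
    (simp [rhoATm, Matrix.mul_apply, Fintype.sum_sum_type, Fin.sum_univ_two]; try ring)

/-- `w⁻¹ = [[0,-1],[1,0]]` -/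
def su4m5_wMi {E : Type*} [Field E] : Matrix.SpecialLinearGroup (Fin 2) E :=
  ⟨!![0, -1; 1, 0], by simp [Matrix.det_fin_two_of]⟩

/-- the root element `x_c(t)` (an element of the closure) -/
def su4m5_xcE (D : Tw F K) (t : F) : ↥(SUJ D.σ) := rhoBT D su4m5_wMi * rhoAT D (xM t) * rhoBT D wM

/-- the root element `x_d(u)` (an element of the closure) -/
def su4m5_xdE (D : Tw F K) (u : K) : ↥(SUJ D.σ) := rhoAT D su4m5_wMi * rhoBT D (xM u) * rhoAT D wM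

/-- the matrix of `x_c(t)` -/
def su4m5_XCm (σ : F →+* F) (t : F) : Matrix (Fin 2 ⊕ Fin 2) (Fin 2 ⊕ Fin 2) F :=
  Matrix.fromBlocks 1 !![0, t; σ t, 0] 0 1

/-- the matrix of `x_d(u)`, `c = ι u` -/
def su4m5_XDm (c : F) : Matrix (Fin 2 ⊕ Fin 2) (Fin 2 ⊕ Fin 2) F :=
  Matrix.fromBlocks 1 !![c, 0; 0, 0] 0 1

theorem su4m5_mt_xcE (D : Tw F K) (t : F) : su4m5_mt (su4m5_xcE D t) = su4m5_XCm D.σ t := by
  unfold su4m5_xcE su4m5_XCm
  rw [su4m5_mt_mul, su4m5_mt_mul, su4m5_mt_rhoBT, su4m5_mt_rhoAT, su4m5_mt_rhoBT]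
  ext (i | i) (j | j) <;> fin_cases i <;> fin_cases j <;>
    simp [rhoATm, rhoBTm, su4m5_wMi, wM, xM, Matrix.mul_apply, Fintype.sum_sum_type, Fin.sum_univ_two]

theorem su4m5_mt_xdE (D : Tw F K) (u : K) : su4m5_mt (su4m5_xdE D u) = su4m5_XDm (D.ι u) := by
  unfold su4m5_xdE su4m5_XDm
  rw [su4m5_mt_mul, su4m5_mt_mul, su4m5_mt_rhoBT, su4m5_mt_rhoAT, su4m5_mt_rhoAT]
  ext (i | i) (j | j) <;> fin_cases i <;> fin_cases j <;>
    simp [rhoATm, rhoBTm, su4m5_wMi, wM, xM, Matrix.mul_apply, Fintype.sum_sum_type, Fin.sum_univ_two]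

/-- right multiplication by `x_c(t)` -/
theorem su4m5_mul_C (σ : F →+* F) (t : F) (A : Matrix (Fin 2 ⊕ Fin 2) (Fin 2 ⊕ Fin 2) F) (i : Fin 2 ⊕ Fin 2) :
    (A * su4m5_XCm σ t) i (Sum.inl 0) = A i (Sum.inl 0) ∧
    (A * su4m5_XCm σ t) i (Sum.inl 1) = A i (Sum.inl 1) ∧
    (A * su4m5_XCm σ t) i (Sum.inr 0) = A i (Sum.inr 0) + A i (Sum.inl 1) * σ t ∧
    (A * su4m5_XCm σ t) i (Sum.inr 1) = A i (Sum.inr 1) + A i (Sum.inl 0) * t := by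
  refine ⟨?_, ?_, ?_, ?_⟩ <;>
    (simp [su4m5_XCm, Matrix.mul_apply, Fintype.sum_sum_type, Fin.sum_univ_two, Matrix.one_apply]; try ring)

/-- right multiplication by `x_d(u)` -/
theorem su4m5_mul_D (c : F) (A : Matrix (Fin 2 ⊕ Fin 2) (Fin 2 ⊕ Fin 2) F) (i : Fin 2 ⊕ Fin 2) :
    (A * su4m5_XDm c) i (Sum.inl 0) = A i (Sum.inl 0) ∧
    (A * su4m5_XDm c) i (Sum.inl 1) = A i (Sum.inl 1) ∧
    (A * su4m5_XDm c) i (Sum.inr 0) = A i (Sum.inr 0) + A i (Sum.inl 0) * c ∧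
    (A * su4m5_XDm c) i (Sum.inr 1) = A i (Sum.inr 1) := by
  refine ⟨?_, ?_, ?_, ?_⟩ <;>
    (simp [su4m5_XDm, Matrix.mul_apply, Fintype.sum_sum_type, Fin.sum_univ_two, Matrix.one_apply]; try ring)

end Cfsg.Agent.Lib.Helper22.SU4
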