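import Mathlib
import Cfsg.Agent.Lib.Helper22.SU4.Defs
import Cfsg.Agent.Lib.Helper21.SU4.M5a

/-!
# Project SU4 (helper22), row M5 (`closure_SUJ`), part 2: Gaussian elimination in the model `SUJ`
-/

set_option autoImplicit false

namespace Cfsg.Agent.Lib.Helper22.SU4

open Cfsg.Agent.Lib.helper17.SLP Cfsg.Agent.Lib.helper3.SP4

universe u

open Matrix

variable {F : Type u} {K : Type u} [Field F] [Field K]

/-- the subgroup generated by the two root `SL₂`'s -/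
def su4m5_Hc (D : Tw F K) : Subgroup ↥(SUJ D.σ) := Subgroup.closure (Set.range (rhoAT D) ∪ Set.range (rhoBT D))

theorem su4m5_rhoAT_mem_Hc (D : Tw F K) (M : Matrix.SpecialLinearGroup (Fin 2) F) : rhoAT D M ∈ su4m5_Hc D :=
  Subgroup.subset_closure (Or.inl ⟨M, rfl⟩)

theorem su4m5_rhoBT_mem_Hc (D : Tw F K) (M : Matrix.SpecialLinearGroup (Fin 2) K) : rhoBT D M ∈ su4m5_Hc D :=
  Subgroup.subset_closure (Or.inr ⟨M, rfl⟩)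

theorem su4m5_xcE_mem_Hc (D : Tw F K) (t : F) : su4m5_xcE D t ∈ su4m5_Hc D :=
  (su4m5_Hc D).mul_mem ((su4m5_Hc D).mul_mem (su4m5_rhoBT_mem_Hc D _) (su4m5_rhoAT_mem_Hc D _)) (su4m5_rhoBT_mem_Hc D _)

theorem su4m5_xdE_mem_Hc (D : Tw F K) (u : K) : su4m5_xdE D u ∈ su4m5_Hc D :=
  (su4m5_Hc D).mul_mem ((su4m5_Hc D).mul_mem (su4m5_rhoAT_mem_Hc D _) (su4m5_rhoBT_mem_Hc D _)) (su4m5_rhoAT_mem_Hc D _)

theorem su4m5_σ_inj (D : Tw F K) {x y : F} (h : D.σ x = D.σ y) : x = y := by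
  have := congrArg D.σ h
  rwa [D.σσ, D.σσ] at this

theorem su4m5_σ_eq_zero (D : Tw F K) {x : F} (h : D.σ x = 0) : x = 0 :=
  su4m5_σ_inj D (by rw [h, map_zero])

/-- step 1: kill the entry `(f₁, e₁)` -/
theorem su4m5_step1 (D : Tw F K) (g : ↥(SUJ D.σ)) :
    ∃ h ∈ su4m5_Hc D, su4m5_mt (h * g) (Sum.inr 0) (Sum.inl 0) = 0 := by
  by_cases h3 : su4m5_mt g (Sum.inr 0) (Sum.inl 0) = 0
  · exact ⟨1, (su4m5_Hc D).one_mem, by rw [one_mul]; exact h3⟩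
  · have hne : D.σ (su4m5_mt g (Sum.inr 0) (Sum.inl 0)) ≠ 0 := fun h => h3 (su4m5_σ_eq_zero D h)
    obtain ⟨M, hM0, hM1⟩ := su4m5_sl2_row (D.σ (su4m5_mt g (Sum.inr 0) (Sum.inl 0))) (D.σ (su4m5_mt g (Sum.inr 1) (Sum.inl 0)))
      (Or.inl hne)
    refine ⟨rhoAT D M, su4m5_rhoAT_mem_Hc D M, ?_⟩
    rw [su4m5_mt_mul, su4m5_mt_rhoAT, (su4m5_A_mul D.σ M.1 (su4m5_mt g) (Sum.inl 0)).2.2.1, hM0, hM1, D.σσ, D.σσ]
    ring

/-- step 2: kill the entry `(f₂, e₁)` -/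
theorem su4m5_step2 (D : Tw F K) (g : ↥(SUJ D.σ)) (h3 : su4m5_mt g (Sum.inr 0) (Sum.inl 0) = 0) :
    ∃ h ∈ su4m5_Hc D, su4m5_mt (h * g) (Sum.inr 0) (Sum.inl 0) = 0 ∧ su4m5_mt (h * g) (Sum.inr 1) (Sum.inl 0) = 0 := by
  by_cases h4 : su4m5_mt g (Sum.inr 1) (Sum.inl 0) = 0
  · exact ⟨1, (su4m5_Hc D).one_mem, by rw [one_mul]; exact ⟨h3, h4⟩⟩
  · have hiso := su4m5_uj_entry D.σ (su4m5_mt_isUJ g) (Sum.inl 0) (Sum.inl 0)
    rw [h3] at hiso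
    have hJ : Matrix.J (Fin 2) F (Sum.inl 0) (Sum.inl 0) = 0 := by simp [Matrix.J]
    rw [hJ] at hiso
    set v2 := su4m5_mt g (Sum.inl 1) (Sum.inl 0) with hv2
    set v4 := su4m5_mt g (Sum.inr 1) (Sum.inl 0) with hv4
    have hσ4 : D.σ v4 ≠ 0 := fun h => h4 (su4m5_σ_eq_zero D h)
    have hfix : D.σ (v2 / v4) = v2 / v4 := by
      rw [map_div₀]
      rw [div_eq_div_iff hσ4 h4]
      simp only [map_zero, mul_zero, zero_mul, add_zero, neg_zero, zero_sub] at hiso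
      linear_combination hiso
    obtain ⟨k, hk⟩ := (D.fix (v2 / v4)).1 hfix
    obtain ⟨M, hM0, hM1⟩ := su4m5_sl2_row (1 : K) (-k) (Or.inl one_ne_zero)
    refine ⟨rhoBT D M, su4m5_rhoBT_mem_Hc D _, ?_, ?_⟩
    · rw [su4m5_mt_mul, su4m5_mt_rhoBT, (su4m5_B_mul D.ι _ (su4m5_mt g) (Sum.inl 0)).2.2.1]
      exact h3
    · rw [su4m5_mt_mul, su4m5_mt_rhoBT, (su4m5_B_mul D.ι _ (su4m5_mt g) (Sum.inl 0)).2.2.2, hM0, hM1, map_one, map_neg, hk, ← hv2, ← hv4]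
      field_simp
      ring

/-- the first column is `e₁` -/
def su4m5_Col1 (A : Matrix (Fin 2 ⊕ Fin 2) (Fin 2 ⊕ Fin 2) F) : Prop :=
  A (Sum.inl 0) (Sum.inl 0) = 1 ∧ A (Sum.inl 1) (Sum.inl 0) = 0 ∧ A (Sum.inr 0) (Sum.inl 0) = 0 ∧
    A (Sum.inr 1) (Sum.inl 0) = 0

/-- step 3: the first column becomes `e₁` -/
theorem su4m5_step3 (D : Tw F K) (g : ↥(SUJ D.σ)) (h3 : su4m5_mt g (Sum.inr 0) (Sum.inl 0) = 0)
    (h4 : su4m5_mt g (Sum.inr 1) (Sum.inl 0) = 0) : ∃ h ∈ su4m5_Hc D, su4m5_Col1 (su4m5_mt (h * g)) := by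
  have hne : su4m5_mt g (Sum.inl 0) (Sum.inl 0) ≠ 0 ∨ su4m5_mt g (Sum.inl 1) (Sum.inl 0) ≠ 0 := by
    by_contra hcon
    rw [not_or, not_not, not_not] at hcon
    have h := su4m5_uj_entry D.σ (su4m5_mt_isUJ g) (Sum.inl 0) (Sum.inr 0)
    rw [hcon.1, hcon.2, h3, h4] at h
    have hJ : Matrix.J (Fin 2) F (Sum.inl 0) (Sum.inr 0) = -1 := by simp [Matrix.J]
    rw [hJ] at h
    simp at h
  obtain ⟨M, hM1, hM2⟩ := su4m5_sl2_col _ _ hne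
  refine ⟨rhoAT D M, su4m5_rhoAT_mem_Hc D M, ?_, ?_, ?_, ?_⟩
  · rw [su4m5_mt_mul, su4m5_mt_rhoAT, (su4m5_A_mul D.σ M.1 (su4m5_mt g) (Sum.inl 0)).1]
    exact hM1
  · rw [su4m5_mt_mul, su4m5_mt_rhoAT, (su4m5_A_mul D.σ M.1 (su4m5_mt g) (Sum.inl 0)).2.1]
    exact hM2
  · rw [su4m5_mt_mul, su4m5_mt_rhoAT, (su4m5_A_mul D.σ M.1 (su4m5_mt g) (Sum.inl 0)).2.2.1, h3, h4]
    ring
  · rw [su4m5_mt_mul, su4m5_mt_rhoAT, (su4m5_A_mul D.σ M.1 (su4m5_mt g) (Sum.inl 0)).2.2.2, h3, h4]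
    ring

/-- a unitary matrix with first column `e₁` has third row `f₁ᵀ` -/
theorem su4m5_row3 (D : Tw F K) {A : Matrix (Fin 2 ⊕ Fin 2) (Fin 2 ⊕ Fin 2) F} (hA : IsUJ D.σ A) (hc : su4m5_Col1 A) :
    A (Sum.inr 0) (Sum.inl 0) = 0 ∧ A (Sum.inr 0) (Sum.inl 1) = 0 ∧ A (Sum.inr 0) (Sum.inr 0) = 1 ∧
      A (Sum.inr 0) (Sum.inr 1) = 0 := by
  obtain ⟨c1, c2, c3, c4⟩ := hc
  have key : ∀ j, D.σ (A (Sum.inr 0) j) = -Matrix.J (Fin 2) F (Sum.inl 0) j := by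
    intro j
    have h := su4m5_uj_entry D.σ hA (Sum.inl 0) j
    rw [c1, c2, c3, c4] at h
    linear_combination -h
  refine ⟨c3, ?_, ?_, ?_⟩
  · apply su4m5_σ_eq_zero D
    rw [key]
    simp [Matrix.J]
  · apply su4m5_σ_inj D
    rw [key, map_one]
    simp [Matrix.J]
  · apply su4m5_σ_eq_zero D
    rw [key]
    simp [Matrix.J]

/-- step 4: right multiplication by `x_a(s)` kills the entry `(e₁, e₂)` -/
theorem su4m5_step4 (D : Tw F K) (g : ↥(SUJ D.σ)) (hc : su4m5_Col1 (su4m5_mt g)) :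
    ∃ h ∈ su4m5_Hc D, su4m5_Col1 (su4m5_mt (g * h)) ∧ su4m5_mt (g * h) (Sum.inl 0) (Sum.inl 1) = 0 := by
  obtain ⟨c1, c2, c3, c4⟩ := hc
  refine ⟨rhoAT D (xM (-(su4m5_mt g (Sum.inl 0) (Sum.inl 1)))), su4m5_rhoAT_mem_Hc D _, ⟨?_, ?_, ?_, ?_⟩, ?_⟩
  · rw [su4m5_mt_mul, su4m5_mt_rhoAT, (su4m5_mul_A D.σ _ (su4m5_mt g) _).1, c1]
    simp [xM]
  · rw [su4m5_mt_mul, su4m5_mt_rhoAT, (su4m5_mul_A D.σ _ (su4m5_mt g) _).1, c2]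
    simp [xM]
  · rw [su4m5_mt_mul, su4m5_mt_rhoAT, (su4m5_mul_A D.σ _ (su4m5_mt g) _).1, c3]
    simp [xM]
  · rw [su4m5_mt_mul, su4m5_mt_rhoAT, (su4m5_mul_A D.σ _ (su4m5_mt g) _).1, c4]
    simp [xM]
  · rw [su4m5_mt_mul, su4m5_mt_rhoAT, (su4m5_mul_A D.σ _ (su4m5_mt g) _).2.1, c1]
    simp [xM]

/-- step 5: right multiplication by `x_c(t)` kills the entry `(e₁, f₂)` -/
theorem su4m5_step5 (D : Tw F K) (g : ↥(SUJ D.σ)) (hc : su4m5_Col1 (su4m5_mt g)) (h12 : su4m5_mt g (Sum.inl 0) (Sum.inl 1) = 0) :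
    ∃ h ∈ su4m5_Hc D, su4m5_Col1 (su4m5_mt (g * h)) ∧ su4m5_mt (g * h) (Sum.inl 0) (Sum.inl 1) = 0 ∧ su4m5_mt (g * h) (Sum.inl 0) (Sum.inr 1) = 0 := by
  obtain ⟨c1, c2, c3, c4⟩ := hc
  refine ⟨su4m5_xcE D (-(su4m5_mt g (Sum.inl 0) (Sum.inr 1))), su4m5_xcE_mem_Hc D _, ⟨?_, ?_, ?_, ?_⟩, ?_, ?_⟩
  · rw [su4m5_mt_mul, su4m5_mt_xcE, (su4m5_mul_C D.σ _ (su4m5_mt g) _).1, c1]
  · rw [su4m5_mt_mul, su4m5_mt_xcE, (su4m5_mul_C D.σ _ (su4m5_mt g) _).1, c2]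
  · rw [su4m5_mt_mul, su4m5_mt_xcE, (su4m5_mul_C D.σ _ (su4m5_mt g) _).1, c3]
  · rw [su4m5_mt_mul, su4m5_mt_xcE, (su4m5_mul_C D.σ _ (su4m5_mt g) _).1, c4]
  · rw [su4m5_mt_mul, su4m5_mt_xcE, (su4m5_mul_C D.σ _ (su4m5_mt g) _).2.1, h12]
  · rw [su4m5_mt_mul, su4m5_mt_xcE, (su4m5_mul_C D.σ _ (su4m5_mt g) _).2.2.2, c1]
    ring

/-- the shape after the three column operations -/
def su4m5_Row1 (A : Matrix (Fin 2 ⊕ Fin 2) (Fin 2 ⊕ Fin 2) F) : Prop :=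
  A (Sum.inl 0) (Sum.inl 1) = 0 ∧ A (Sum.inl 0) (Sum.inr 0) = 0 ∧ A (Sum.inl 0) (Sum.inr 1) = 0

/-- step 6: right multiplication by `x_d(u)` kills the entry `(e₁, f₁)` -/
theorem su4m5_step6 (D : Tw F K) (g : ↥(SUJ D.σ)) (hc : su4m5_Col1 (su4m5_mt g)) (h12 : su4m5_mt g (Sum.inl 0) (Sum.inl 1) = 0)
    (h14 : su4m5_mt g (Sum.inl 0) (Sum.inr 1) = 0) :
    ∃ h ∈ su4m5_Hc D, su4m5_Col1 (su4m5_mt (g * h)) ∧ su4m5_Row1 (su4m5_mt (g * h)) := by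
  obtain ⟨c1, c2, c3, c4⟩ := hc
  have hr := su4m5_uj_row_entry D.σ (su4m5_mt_isUJ g) (Sum.inl 0) (Sum.inl 0)
  rw [c1, h12, h14] at hr
  have hJ : Matrix.J (Fin 2) F (Sum.inl 0) (Sum.inl 0) = 0 := by simp [Matrix.J]
  rw [hJ] at hr
  have hfix : D.σ (su4m5_mt g (Sum.inl 0) (Sum.inr 0)) = su4m5_mt g (Sum.inl 0) (Sum.inr 0) := by
    simp only [map_one, map_zero, zero_mul, one_mul, mul_one, sub_zero, add_zero] at hr
    linear_combination hr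
  obtain ⟨k, hk⟩ := (D.fix _).1 hfix
  refine ⟨su4m5_xdE D (-k), su4m5_xdE_mem_Hc D _, ⟨?_, ?_, ?_, ?_⟩, ?_, ?_, ?_⟩
  · rw [su4m5_mt_mul, su4m5_mt_xdE, (su4m5_mul_D _ (su4m5_mt g) _).1, c1]
  · rw [su4m5_mt_mul, su4m5_mt_xdE, (su4m5_mul_D _ (su4m5_mt g) _).1, c2]
  · rw [su4m5_mt_mul, su4m5_mt_xdE, (su4m5_mul_D _ (su4m5_mt g) _).1, c3]
  · rw [su4m5_mt_mul, su4m5_mt_xdE, (su4m5_mul_D _ (su4m5_mt g) _).1, c4]
  · rw [su4m5_mt_mul, su4m5_mt_xdE, (su4m5_mul_D _ (su4m5_mt g) _).2.1, h12]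
  · rw [su4m5_mt_mul, su4m5_mt_xdE, (su4m5_mul_D _ (su4m5_mt g) _).2.2.1, c1, map_neg, hk]
    ring
  · rw [su4m5_mt_mul, su4m5_mt_xdE, (su4m5_mul_D _ (su4m5_mt g) _).2.2.2, h14]

/-- step 7: a unitary matrix of determinant `1` with first column `e₁` and first row `e₁ᵀ` is in the long-root `SL₂(K)` -/
theorem su4m5_shape (D : Tw F K) {A : Matrix (Fin 2 ⊕ Fin 2) (Fin 2 ⊕ Fin 2) F} (hA : IsUJ D.σ A) (hdet : A.det = 1)
    (hc : su4m5_Col1 A) (hr : su4m5_Row1 A) : ∃ M : Matrix.SpecialLinearGroup (Fin 2) K, A = rhoBTm D.ι M.1 := by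
  obtain ⟨r31, r32, r33, r34⟩ := su4m5_row3 D hA hc
  obtain ⟨c1, c2, c3, c4⟩ := hc
  obtain ⟨r12, r13, r14⟩ := hr
  have key : ∀ j, A j (Sum.inr 0) = -Matrix.J (Fin 2) F (Sum.inl 0) j := by
    intro j
    have h := su4m5_uj_row_entry D.σ hA (Sum.inl 0) j
    rw [c1, r12, r13, r14] at h
    simp only [map_one, map_zero, zero_mul, one_mul, sub_zero, add_zero] at h
    linear_combination -h
  have c23 : A (Sum.inl 1) (Sum.inr 0) = 0 := by rw [key]; simp [Matrix.J]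
  have c43 : A (Sum.inr 1) (Sum.inr 0) = 0 := by rw [key]; simp [Matrix.J]
  set a := A (Sum.inl 1) (Sum.inl 1) with ha
  set b := A (Sum.inl 1) (Sum.inr 1) with hb
  set c := A (Sum.inr 1) (Sum.inl 1) with hc'
  set d := A (Sum.inr 1) (Sum.inr 1) with hd
  -- the determinant
  have hsub : A.submatrix (Equiv.swap (Sum.inl 1) (Sum.inr 0)) (Equiv.swap (Sum.inl 1) (Sum.inr 0)) =
      Matrix.fromBlocks 1 0 0 !![a, b; c, d] := by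
    ext (i | i) (j | j) <;> fin_cases i <;> fin_cases j <;>
      simp [Equiv.swap_apply_def, c1, c2, c3, c4, r12, r13, r14, r32, r33, r34, c23, c43, ha, hb, hc', hd]
  have E1 : a * d - b * c = 1 := by
    rw [← Matrix.det_submatrix_equiv_self (Equiv.swap (Sum.inl 1) (Sum.inr 0)), hsub, Matrix.det_fromBlocks_zero₁₂,
      Matrix.det_one, one_mul, Matrix.det_fin_two_of] at hdet
    exact hdet
  -- unitarity
  have E3 := su4m5_uj_entry D.σ hA (Sum.inl 1) (Sum.inl 1)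
  have E2 := su4m5_uj_entry D.σ hA (Sum.inl 1) (Sum.inr 1)
  have E4 := su4m5_uj_entry D.σ hA (Sum.inr 1) (Sum.inr 1)
  have E2' := su4m5_uj_entry D.σ hA (Sum.inr 1) (Sum.inl 1)
  rw [r12, r32, ← ha, ← hc'] at E3
  rw [r12, r32, r14, r34, ← ha, ← hb, ← hc', ← hd] at E2
  rw [r14, r34, ← hb, ← hd] at E4
  rw [r12, r32, r14, r34, ← ha, ← hb, ← hc', ← hd] at E2'
  have J11 : Matrix.J (Fin 2) F (Sum.inl 1) (Sum.inl 1) = 0 := by simp [Matrix.J]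
  have J14 : Matrix.J (Fin 2) F (Sum.inl 1) (Sum.inr 1) = -1 := by simp [Matrix.J]
  have J44 : Matrix.J (Fin 2) F (Sum.inr 1) (Sum.inr 1) = 0 := by simp [Matrix.J]
  have J41 : Matrix.J (Fin 2) F (Sum.inr 1) (Sum.inl 1) = 1 := by simp [Matrix.J]
  rw [J11] at E3
  rw [J14] at E2
  rw [J44] at E4
  rw [J41] at E2'
  simp only [map_zero, mul_zero, neg_zero, zero_sub, add_zero] at E3 E2 E4 E2'
  have fa : D.σ a = a := by linear_combination (-(D.σ a)) * E1 + a * E2' - b * E3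
  have fb : D.σ b = b := by linear_combination (-(D.σ b)) * E1 - b * E2 + a * E4
  have fc : D.σ c = c := by linear_combination (-(D.σ c)) * E1 + c * E2' - d * E3
  have fd : D.σ d = d := by linear_combination (-(D.σ d)) * E1 - d * E2 + c * E4
  obtain ⟨a0, ha0⟩ := (D.fix a).1 fa
  obtain ⟨b0, hb0⟩ := (D.fix b).1 fb
  obtain ⟨c0, hc0⟩ := (D.fix c).1 fc
  obtain ⟨d0, hd0⟩ := (D.fix d).1 fd
  have hdet0 : (!![a0, b0; c0, d0] : Matrix (Fin 2) (Fin 2) K).det = 1 := by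
    rw [Matrix.det_fin_two_of]
    apply D.ι_injective
    rw [map_sub, map_mul, map_mul, map_one, ha0, hb0, hc0, hd0]
    exact E1
  refine ⟨⟨!![a0, b0; c0, d0], hdet0⟩, ?_⟩
  ext (i | i) (j | j) <;> fin_cases i <;> fin_cases j <;>
    simp [rhoBTm, c1, c2, c3, c4, r12, r13, r14, r32, r33, r34, c23, c43, ha0, hb0, hc0, hd0, ← ha, ← hb, ← hc', ← hd]

/-- every element of `SUJ` lies in the subgroup generated by the two root `SL₂`'s -/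
theorem su4m5_all (D : Tw F K) (g : ↥(SUJ D.σ)) : g ∈ su4m5_Hc D := by
  obtain ⟨h1, hh1, e1⟩ := su4m5_step1 D g
  obtain ⟨h2, hh2, e2, e2'⟩ := su4m5_step2 D (h1 * g) e1
  obtain ⟨h3, hh3, e3⟩ := su4m5_step3 D (h2 * (h1 * g)) e2 e2'
  obtain ⟨k4, hk4, c4, r4⟩ := su4m5_step4 D (h3 * (h2 * (h1 * g))) e3
  obtain ⟨k5, hk5, c5, r5, r5'⟩ := su4m5_step5 D (h3 * (h2 * (h1 * g)) * k4) c4 r4
  obtain ⟨k6, hk6, c6, r6⟩ := su4m5_step6 D (h3 * (h2 * (h1 * g)) * k4 * k5) c5 r5 r5'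
  obtain ⟨M, hM⟩ := su4m5_shape D (su4m5_mt_isUJ (h3 * (h2 * (h1 * g)) * k4 * k5 * k6))
    (su4m5_mt_det (h3 * (h2 * (h1 * g)) * k4 * k5 * k6)) c6 r6
  have h6 : h3 * (h2 * (h1 * g)) * k4 * k5 * k6 = rhoBT D M := su4m5_mt_injective (by rw [hM, su4m5_mt_rhoBT])
  have hg : g = h1⁻¹ * h2⁻¹ * h3⁻¹ * (h3 * (h2 * (h1 * g)) * k4 * k5 * k6) * k6⁻¹ * k5⁻¹ * k4⁻¹ := by group
  rw [hg, h6]
  exact (su4m5_Hc D).mul_mem ((su4m5_Hc D).mul_mem ((su4m5_Hc D).mul_mem ((su4m5_Hc D).mul_mem ((su4m5_Hc D).mul_mem ((su4m5_Hc D).mul_mem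
    ((su4m5_Hc D).inv_mem hh1) ((su4m5_Hc D).inv_mem hh2)) ((su4m5_Hc D).inv_mem hh3)) (su4m5_rhoBT_mem_Hc D M)) ((su4m5_Hc D).inv_mem hk6))
    ((su4m5_Hc D).inv_mem hk5)) ((su4m5_Hc D).inv_mem hk4)

/-- M5 -/
theorem closure_SUJ [Fintype F] [Fintype K] (D : Tw F K) (hFK : Fintype.card F = Fintype.card K ^ 2) :
    Subgroup.closure (Set.range (rhoAT D) ∪ Set.range (rhoBT D)) = ⊤ := by
  rw [eq_top_iff]
  intro g _
  exact su4m5_all D g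

end Cfsg.Agent.Lib.Helper22.SU4
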